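import Cfsg.Agent.Lib.ThreeTransp.W22.Normal
import Cfsg.Agent.Lib.ThreeTransp.Fi22Model.Type
import Cfsg.Agent.Lib.ThreeTransp.M22Iso.Normal

/-!
The orthogonal part of type M(22) follows from the unitary part: standard coordinates identify the
common neighbourhood of two non-commuting members with the one of the presented group Fi22.
-/

set_option autoImplicit false
set_option linter.unusedSectionVars false
set_option linter.style.haveILetI false

namespace Cfsg.Agent.ThreeTransp.W22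

open Cfsg.Agent.InvChar.Coset (FF)
open Cfsg.Agent.ThreeTransp
open Cfsg.Agent.ThreeTransp.M22Iso
open Cfsg.Agent.ThreeTransp.Factor (nb)

universe u

variable {G : Type u} [Group G] [Finite G] {D : Set G}

/-- The group generated by the common neighbours is that of the presented Fi22 modulo centres. -/
theorem orth (hD : Cfsg.IsThreeTranspositionGroup D) (hprim : Cfsg.IsPrimitiveUnderConj D)
    (h22 : Weak G D) {a c : G} (ha : a ∈ D) (hc : c ∈ D) (hac : ¬ Commute a c) :
    Cfsg.IsProjReflectionGroupModThree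
      (↥(Subgroup.closure (nb D a ∩ nb D c)) ⧸
        Subgroup.center ↥(Subgroup.closure (nb D a ∩ nb D c))) 6 1 1 := by
  classical
  haveI := InvChar.Coset.FiUnit.finite_Fi
  obtain ⟨C, hC⟩ := exists_std hD hprim h22 ha hc hac
  set N := nb D a ∩ nb D c with hN
  open Fi22Model in
  have hac' : ¬ Commute InvChar.Coset.FiUnit.ta (InvChar.Coset.FiOut.dd p1) := by
    intro h
    rw [ta_P0, ← InvChar.Coset.FiOut.meets_iff] at h
    revert h
    show ¬ InvChar.Coset.FiOut.meets 0 1 = true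
    rw [far_ok]
    decide
  obtain ⟨C', hC'⟩ := M22Iso.exists_std Fi22Model.grp Fi22Model.primitive Fi22Model.type22
    (mem_conjugatesOf_self) (Fi22Model.dd_mem Fi22Model.p1) hac'
  set N' := nb Fi22Model.DD InvChar.Coset.FiUnit.ta ∩
    nb Fi22Model.DD (InvChar.Coset.FiOut.dd Fi22Model.p1) with hN'
  obtain ⟨Q, h1, h2, ⟨e⟩⟩ := Fi22Model.local_orth
  refine ⟨Q, h1, h2, ?_⟩
  let S : Set ↥(Subgroup.closure N) := {x | (x : G) ∈ N}
  let R : Set ↥(Subgroup.closure N') := {x | (x : Fi22Model.Fi) ∈ N'}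
  have idx : ∀ x : ↥(Subgroup.closure N), x ∈ S → ∃ v, Pt v ∧ Std v ∧ C.f v = x := by
    intro x hx
    obtain ⟨v, hv, e⟩ := C.cover x hx.1
    refine ⟨v, hv, (hC v hv).1 ?_, e⟩
    rw [e]; exact hx
  let β : ↥(Subgroup.closure N) → ↥(Subgroup.closure N') := fun x =>
    if h : x ∈ S then
      ⟨C'.f (idx x h).choose, Subgroup.subset_closure
        ((hC' _ (idx x h).choose_spec.1).2 (idx x h).choose_spec.2.1)⟩
    else 1
  have hβ : ∀ x ∈ S, ∀ v, Pt v → C.f v = x → ((β x : ↥(Subgroup.closure N')) : Fi22Model.Fi) = C'.f v := by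
    intro x hx v hv e'
    rw [show β x = _ from dif_pos hx]
    obtain ⟨hw, -, hwe⟩ := (idx x hx).choose_spec
    exact (C'.eq_iff _ _ hw hv).2 ((C.eq_iff _ _ hw hv).1 (hwe.trans e'.symm))
  have hinvS : ∀ x ∈ S, x⁻¹ = x := fun x hx => Subtype.ext (Classes.inv hD hx.1.1)
  have hinvR : ∀ x ∈ R, x⁻¹ = x := fun x hx => Subtype.ext (Classes.inv Fi22Model.grp hx.1.1)
  refine (Fi22Model.quot_center_congr (S := S) (R := R) Subgroup.closure_closure_coe_preimage
    Subgroup.closure_closure_coe_preimage hinvS hinvR β ?_ ?_ ?_ ?_).map fun f => f.trans e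
  · intro x hx
    obtain ⟨v, hv, hs, e'⟩ := idx x hx
    show ((β x : ↥(Subgroup.closure N')) : Fi22Model.Fi) ∈ N'
    rw [hβ x hx v hv e']
    exact (hC' v hv).2 hs
  · intro r hr
    obtain ⟨v, hv, e'⟩ := C'.cover r hr.1
    have hs : Std v := (hC' v hv).1 (by rw [e']; exact hr)
    have hm : C.f v ∈ N := (hC v hv).2 hs
    refine ⟨⟨_, Subgroup.subset_closure hm⟩, hm, Subtype.ext ?_⟩
    rw [hβ _ hm v hv rfl, e']
  · intro x hx y hy hxy
    obtain ⟨u, hu, -, eu⟩ := idx x hx
    obtain ⟨v, hv, -, ev⟩ := idx y hy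
    have h := congrArg Subtype.val hxy
    rw [hβ x hx u hu eu, hβ y hy v hv ev] at h
    exact Subtype.ext (by rw [← eu, ← ev, (C.eq_iff u v hu hv).2 ((C'.eq_iff u v hu hv).1 h)])
  · intro x hx y hy
    obtain ⟨u, hu, -, eu⟩ := idx x hx
    obtain ⟨v, hv, -, ev⟩ := idx y hy
    have hS : x * y * x⁻¹ ∈ S := by
      rw [hinvS x hx]
      show (x : G) * y * x ∈ N
      exact conj_mem_inter hD hx hy
    have heq : C.f (τ u v) = ((x * y * x⁻¹ : ↥(Subgroup.closure N)) : G) := by
      rw [hinvS x hx, ← C.line u v hu hv, eu, ev]; rfl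
    obtain ⟨w, hw, -, ew⟩ := idx _ hS
    have hwt : ∃ s : FF, τ u v = s • w :=
      (C.eq_iff w _ hw (Pt.tau hu.2 hv)).1 (ew.trans heq.symm)
    refine ⟨hS, Subtype.ext ?_⟩
    rw [hβ _ hS w hw ew, Subgroup.coe_mul, Subgroup.coe_mul, InvMemClass.coe_inv, hβ x hx u hu eu,
      hβ y hy v hv ev, Classes.inv Fi22Model.grp (C'.mem u hu).1, C'.line u v hu hv]
    exact (C'.eq_iff w _ hw (Pt.tau hu.2 hv)).2 hwt

end Cfsg.Agent.ThreeTransp.W22
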