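import Cfsg.Agent.Lib.ThreeTransp.W22.Eighteen
import Cfsg.Agent.Lib.ThreeTransp.M22Iso.Coord

/-!
Coordinates, from the unitary part alone.
-/

set_option autoImplicit false
set_option linter.unusedSectionVars false
set_option linter.style.haveILetI false

namespace Cfsg.Agent.ThreeTransp.W22

open Cfsg.Agent.Classical.Unitary
open Cfsg.Agent.Forms
open Cfsg.Agent.GroupStructure3.ThreeTransUnitary (tr tr_mulVec)
open Cfsg.Agent.InvChar.Coset (FF)
open Cfsg.Agent.ThreeTransp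
open Cfsg.Agent.ThreeTransp.Factor (nb mem_Hd)
open Cfsg.Agent.ThreeTransp.M22Iso (Coord Pt Vec τ)

local notation "H" => Cfsg.hermForm 6 FF 2

universe u

variable {G : Type u} [Group G] {D : Set G}


variable [Finite G] (hD : Cfsg.IsThreeTranspositionGroup D) (h22 : Weak G D)
include hD h22

/-- Coordinates exist. -/
theorem exists_coord {a : G} (ha : a ∈ D) : Nonempty (Coord D a) := by
  obtain ⟨C⟩ := exists_chart hD h22 ha
  let σ : FF ≃+* C.F := FiniteField.ringEquivOfCardEq (show Fintype.card FF = Fintype.card C.F by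
    rw [C.hF]; rfl)
  let g : Vec → (Fin 6 → C.F) := fun v i => σ (v i)
  have gH : ∀ u v, Cfsg.hermForm 6 C.F 2 (g u) (g v) = σ (H u v) := fun u v => by
    simp [Cfsg.hermForm, g, map_sum]
  have gsm : ∀ (c : FF) v, g (c • v) = σ c • g v := fun c v => funext fun i => by simp [g]
  have ginj : ∀ {u v : Vec}, g u = g v → u = v := fun h => funext fun i => σ.injective (congrFun h i)
  have gsurj : ∀ w : Fin 6 → C.F, g (fun i => σ.symm (w i)) = w := fun w =>
    funext fun i => by simp [g]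
  have g0 : ∀ {v : Vec}, v ≠ 0 → g v ≠ 0 := fun hv e => hv (ginj (e.trans (funext fun i => by simp [g])))
  have giso : ∀ {v : Vec}, Pt v → Cfsg.hermForm 6 C.F 2 (g v) (g v) = 0 := fun hv => by
    rw [gH, hv.2, _root_.map_zero]
  refine ⟨⟨fun v => C.f (g v), fun v hv => C.mem _ (g0 hv.1) (giso hv), ?_, ?_, ?_, ?_⟩⟩
  · intro x hx
    obtain ⟨w, hw0, hw, rfl⟩ := C.cover x hx
    refine ⟨fun i => σ.symm (w i), ⟨fun e => hw0 ?_, ?_⟩, by rw [gsurj]⟩
    · rw [← gsurj w, e]; funext i; simp [g]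
    · have := gH (fun i => σ.symm (w i)) (fun i => σ.symm (w i))
      rw [gsurj, hw, eq_comm, RingEquiv.map_eq_zero_iff] at this
      exact this
  · intro v w hv hw
    rw [C.eq_iff _ _ (g0 hv.1) (giso hv) (g0 hw.1) (giso hw)]
    exact ⟨fun ⟨c, hc⟩ => ⟨σ.symm c, ginj (by rw [gsm, RingEquiv.apply_symm_apply, hc])⟩,
      fun ⟨c, hc⟩ => ⟨σ c, by rw [hc, gsm]⟩⟩
  · intro v w hv hw
    rw [C.comm_iff _ _ (g0 hv.1) (giso hv) (g0 hw.1) (giso hw), gH, RingEquiv.map_eq_zero_iff]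
  · intro u v hu hv
    have h := C.f_conj hD (C.img (g u) (g0 hu.1) (giso hu)) (g0 hv.1) (giso hv)
    rw [tr_mulVec, show ((⟨C.f (g u), mem_Hd (C.mem _ (g0 hu.1) (giso hu))⟩ :
      ↥(Factor.Hd D a)) : G) = C.f (g u) from rfl,
      Classes.inv hD (C.mem _ (g0 hu.1) (giso hu)).1] at h
    rw [h]
    congr 1
    rw [τ, gH]
    funext i
    simp [g]


end Cfsg.Agent.ThreeTransp.W22
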