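import Cfsg.Agent.Lib.ThreeTransp.Factor.Types
import Cfsg.Agent.Lib.ThreeTransp.WidthOne
import Cfsg.Agent.Lib.ThreeTransp.Cover

/-!
Groups with local subgroups as in type M(22), only the unitary part being assumed, together with the
restriction on the prime eleven that replaces the orthogonal part in the counting.
-/

set_option autoImplicit false
set_option linter.unusedSectionVars false
set_option linter.style.haveILetI false

namespace Cfsg.Agent.ThreeTransp.W22

open Cfsg.Agent.ThreeTransp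
open Cfsg.Agent.ThreeTransp.Factor (nb Hd Dl Dq Sd Sep)

/-- The unitary half of type M(22) and a bound on the prime eleven. -/
structure Weak (G : Type*) [Group G] (D : Set G) : Prop where
  center : Subgroup.center G = ⊥
  trans : ∀ a ∈ D, ∀ b ∈ D, ∃ g : G, g * a * g⁻¹ = b
  hat : ∀ a ∈ D, ∃ (F : Type) (_ : Field F) (_ : Fintype F), Fintype.card F = 2 ^ 2 ∧
    Nonempty (Sd D a ≃* Cfsg.PSU 6 F 2)
  eleven : ∀ a ∈ D, ¬ 121 ∣ Nat.card ↥(Subgroup.centralizer ({a} : Set G))

variable {G : Type*} [Group G] [Finite G] {D : Set G}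

/-- The facts on one member. -/
theorem core22 (hD : Cfsg.IsThreeTranspositionGroup D) (h : Weak G D) :
    (∀ a ∈ D, Cfsg.pCore 2 G = ⊥) ∧ ∀ a ∈ D, Sep D a ∧
      (∀ x ∈ Dl D a, x ∉ Subgroup.center ↥(Hd D a)) ∧
        ∃ (F : Type) (_ : Field F) (_ : Fintype F), Fintype.card F = 2 ^ 2 ∧
          Nonempty (Sd D a ≃* Cfsg.PSU 6 F 2) := by
  have key : ∀ a ∈ D, Cfsg.pCore 2 G = ⊥ ∧ (∀ x ∈ Dl D a, x ∉ Subgroup.center ↥(Hd D a)) ∧
      Sep D a := by
    intro a ha
    obtain ⟨F, i1, i2, hF, ⟨ψ⟩⟩ := h.hat a ha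
    exact Factor.core hD h.trans h.center ha (Factor.simple_of_iso hF ψ).2.1
      (Factor.pCore_two_of_iso hF ψ)
  exact ⟨fun a ha => (key a ha).1, fun a ha => ⟨(key a ha).2.2, (key a ha).2.1, h.hat a ha⟩⟩

/-- If 121 divides the number of members, some element of order eleven contradicts the absence of
commuting pairs in its centraliser. -/
theorem not_121_dvd (hD : Cfsg.IsThreeTranspositionGroup D) (h : Weak G D) {a : G} (ha : a ∈ D)
    (h11 : 11 ∣ D.ncard) (hC : 11 ∣ Nat.card ↥(Subgroup.centralizer ({a} : Set G)))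
    (hnb : ∀ y ∈ D, ∀ z ∈ nb D y, 693 *
      Nat.card ↥(Subgroup.centralizer ({y} : Set G) ⊓ Subgroup.centralizer ({z} : Set G)) ∣
      Nat.card ↥(Subgroup.centralizer ({y} : Set G))) : False := by
  classical
  haveI h11f : Fact (Nat.Prime 11) := ⟨by norm_num⟩
  have hG : D.ncard * Nat.card ↥(Subgroup.centralizer ({a} : Set G)) = Nat.card G := by
    letI : MulAction G G := inferInstanceAs (MulAction (ConjAct G) G)
    rw [← (Subgroup.centralizer ({a} : Set G)).index_mul_card]
    congr 1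
    rw [Subgroup.index, ← Nat.card_coe_set_eq]
    refine (Nat.card_congr (Equiv.ofBijective (Quotient.lift
      (fun g : G => (⟨g * a * g⁻¹, hD.2.1 g a ha⟩ : D)) ?_) ⟨?_, ?_⟩)).symm
    · intro g g' hr
      have h2 := Subgroup.mem_centralizer_singleton_iff.1 (QuotientGroup.leftRel_apply.1 hr)
      refine Subtype.ext ?_
      show g * a * g⁻¹ = g' * a * g'⁻¹
      calc g * a * g⁻¹ = g * ((g⁻¹ * g') * a * (g⁻¹ * g')⁻¹) * g⁻¹ := by
            rw [h2, mul_inv_cancel_right]
        _ = _ := by group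
    · intro p q
      induction p using Quotient.inductionOn with
      | h g =>
        induction q using Quotient.inductionOn with
        | h g' =>
          intro hh
          have h' : g * a * g⁻¹ = g' * a * g'⁻¹ := congrArg Subtype.val hh
          refine Quotient.sound (QuotientGroup.leftRel_apply.2
            (Subgroup.mem_centralizer_singleton_iff.2 ?_))
          calc g⁻¹ * g' * a = g⁻¹ * (g' * a * g'⁻¹) * g' := by group
            _ = a * (g⁻¹ * g') := by rw [← h']; group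
    · rintro ⟨y, hy⟩
      obtain ⟨g, hg⟩ := h.trans a ha y hy
      exact ⟨Quotient.mk _ g, Subtype.ext hg⟩
  have h121 : 11 ^ 2 ∣ Nat.card G := by rw [← hG, pow_two]; exact Nat.mul_dvd_mul h11 hC
  obtain ⟨x', hx'⟩ := exists_prime_orderOf_dvd_card' (G := ↥(Subgroup.centralizer ({a} : Set G))) 11 hC
  set x : G := (x' : G) with hx
  have hxo : orderOf x = 11 := by rw [hx, Subgroup.orderOf_coe, hx']
  have hxa : Commute a x := (Subgroup.mem_centralizer_singleton_iff.1 x'.2).symm
  obtain ⟨Q, hQ, hxQ⟩ := Sylow.exists_subgroup_card_pow_succ (n := 1) (p := 11)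
    h121 (H := Subgroup.zpowers x) (by rw [Nat.card_zpowers, hxo, pow_one])
  have hQc : Nat.card ↥Q = 11 ^ 2 := hQ
  have hcomm := (IsPGroup.isMulCommutative_of_card_eq_prime_sq hQc).is_comm.comm
  have hxQ' : x ∈ Q := hxQ (Subgroup.mem_zpowers x)
  set E : Set G := {y | y ∈ D ∧ Commute y x} with hE
  letI act : MulAction ↥Q ↥E :=
    { smul := fun q y => ⟨(q : G) * y.1 * (q : G)⁻¹, hD.2.1 _ _ y.2.1, by
        have hq : Commute (q : G) x := congrArg Subtype.val (hcomm q ⟨x, hxQ'⟩)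
        exact (hq.mul_left y.2.2).mul_left hq.inv_left⟩
      one_smul := fun y => Subtype.ext (by
        show (1 : G) * y.1 * (1 : G)⁻¹ = y.1
        group)
      mul_smul := fun p q y => Subtype.ext (by
        show (p : G) * q * y.1 * ((p : G) * q)⁻¹ = (p : G) * ((q : G) * y.1 * (q : G)⁻¹) * (p : G)⁻¹
        group) }
  have hfix : MulAction.fixedPoints ↥Q ↥E = ∅ := by
    rw [Set.eq_empty_iff_forall_notMem]
    intro y hy
    refine h.eleven y.1 y.2.1 ?_
    rw [show (121 : ℕ) = Nat.card ↥Q by rw [hQc]; norm_num]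
    refine Subgroup.card_dvd_of_le fun q hq => Subgroup.mem_centralizer_singleton_iff.2 ?_
    exact mul_inv_eq_iff_eq_mul.1 (congrArg Subtype.val (hy ⟨q, hq⟩))
  have hmod := (IsPGroup.of_card hQc).card_modEq_card_fixedPoints ↥E
  rw [hfix] at hmod
  have hEdvd : 11 ∣ Nat.card ↥E := by
    rw [Nat.card_coe_set_eq (∅ : Set ↥E), Set.ncard_empty] at hmod
    exact (Nat.modEq_zero_iff_dvd).1 hmod
  -- no two members of `E` commute
  have hw : ∀ y ∈ E, ∀ z ∈ E, Commute y z → y = z := by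
    intro y hy z hz hyz
    by_contra hne
    refine h.eleven y hy.1 ?_
    have h1 : 11 ∣ Nat.card ↥(Subgroup.centralizer ({y} : Set G) ⊓
        Subgroup.centralizer ({z} : Set G)) := by
      rw [← hxo, ← Nat.card_zpowers]
      exact Subgroup.card_dvd_of_le ((Subgroup.zpowers_le).2
        ⟨Subgroup.mem_centralizer_singleton_iff.2 hy.2.eq.symm,
          Subgroup.mem_centralizer_singleton_iff.2 hz.2.eq.symm⟩)
    exact ((show 121 ∣ 693 * 11 from by norm_num).trans (Nat.mul_dvd_mul_left 693 h1)).trans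
      (hnb y hy.1 z ⟨hz.1, Ne.symm hne, hyz⟩)
  set H := Subgroup.closure E with hH
  have hEH : E ⊆ (H : Set G) := Subgroup.subset_closure
  have hHx : ∀ g ∈ H, Commute g x := fun g hg => by
    induction hg using Subgroup.closure_induction with
    | mem y hy => exact hy.2
    | one => exact Commute.one_left x
    | mul p q _ _ hp hq => exact hp.mul_left hq
    | inv p _ hp => exact hp.inv_left
  set E' : Set ↥H := {y | (y : G) ∈ E} with hE'
  have hset : Cfsg.IsThreeTranspositionSet E' := by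
    refine ⟨fun y hy => by rw [← Subgroup.orderOf_coe]; exact hD.1.1 _ hy.1, fun y hy z hz => ?_⟩
    exact (hD.1.2 _ hy.1 _ hz.1).imp (fun h => Subtype.ext h) (fun h => Subtype.ext h)
  have hconj : ∀ g : ↥H, ∀ y ∈ E', g * y * g⁻¹ ∈ E' := fun g y hy =>
    ⟨hD.2.1 _ _ hy.1, ((hHx g g.2).mul_left hy.2).mul_left (hHx g g.2).inv_left⟩
  have hw' : ∀ y ∈ E', ∀ z ∈ E', Commute y z → y = z := fun y hy z hz hc =>
    Subtype.ext (hw y hy z hz (congrArg Subtype.val hc.eq))
  set a' : ↥H := ⟨a, hEH ⟨ha, hxa⟩⟩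
  have ha' : a' ∈ E' := ⟨ha, hxa⟩
  set P := Cfsg.pCore 3 ↥H
  haveI : Fact (Nat.Prime 3) := ⟨Nat.prime_three⟩
  have horb : ∀ y : ↥E, ∃ p : ↥P, ((p : ↥H) : G) * a * ((p : ↥H) : G)⁻¹ = y.1 := by
    intro y
    set y' : ↥H := ⟨y.1, hEH y.2⟩
    have hy' : y' ∈ E' := y.2
    have hm := WidthOne.mul_mem_pCore hset hconj hw' ha' hy'
    by_cases he : y' = a'
    · refine ⟨1, ?_⟩
      have : y.1 = a := congrArg Subtype.val he
      rw [this]; simp
    have hcube : (a' * y') ^ 3 = 1 := Basic.cube_of_not_commute hset ha' hy'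
      fun hc => he (hw' a' ha' y' hy' hc).symm
    refine ⟨⟨a' * y', hm⟩, ?_⟩
    have hb := Basic.braid_of_cube (Basic.sq hset ha') (Basic.sq hset hy') hcube
    have e : a' * y' * a' * (a' * y')⁻¹ = y' := by
      rw [_root_.mul_inv_rev, Basic.inv_eq hset ha', Basic.inv_eq hset hy', hb,
        show y' * a' * y' * (y' * a') = y' * a' * (y' * y') * a' by group, Basic.sq hset hy', mul_one,
        mul_assoc, Basic.sq hset ha', mul_one]
    exact congrArg Subtype.val e
  choose f hf using horb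
  set St : Subgroup ↥P := (Subgroup.centralizer ({a} : Set G)).comap (H.subtype.comp P.subtype)
  have hbij : Nat.card ↥E = St.index := by
    rw [Subgroup.index]
    refine Nat.card_congr (Equiv.ofBijective (fun y => QuotientGroup.mk (f y)) ⟨?_, ?_⟩)
    · intro y z hyz
      have hmem : (f y)⁻¹ * f z ∈ St := QuotientGroup.eq.1 hyz
      have hc : Commute (((f y : ↥H) : G)⁻¹ * ((f z : ↥H) : G)) a :=
        Subgroup.mem_centralizer_singleton_iff.1 hmem
      refine Subtype.ext ?_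
      rw [← hf y, ← hf z]
      calc ((f y : ↥H) : G) * a * ((f y : ↥H) : G)⁻¹
          = ((f y : ↥H) : G) * ((((f y : ↥H) : G)⁻¹ * ((f z : ↥H) : G)) * a *
              (((f y : ↥H) : G)⁻¹ * ((f z : ↥H) : G))⁻¹) * ((f y : ↥H) : G)⁻¹ := by
            rw [hc.eq, mul_inv_cancel_right]
        _ = _ := by group
    · intro q
      obtain ⟨p, rfl⟩ := QuotientGroup.mk_surjective q
      have hm : ((p : ↥H) : G) * a * ((p : ↥H) : G)⁻¹ ∈ E := hconj p a' ha'
      obtain ⟨r, hr⟩ : ∃ r : G, r = ((f ⟨_, hm⟩ : ↥H) : G) := ⟨_, rfl⟩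
      have e : r * a * r⁻¹ = ((p : ↥H) : G) * a * ((p : ↥H) : G)⁻¹ := hr ▸ hf ⟨_, hm⟩
      refine ⟨⟨_, hm⟩, QuotientGroup.eq.2 (Subgroup.mem_centralizer_singleton_iff.2 ?_)⟩
      show ((f ⟨_, hm⟩ : ↥H) : G)⁻¹ * ((p : ↥H) : G) * a =
        a * (((f ⟨_, hm⟩ : ↥H) : G)⁻¹ * ((p : ↥H) : G))
      rw [← hr]
      calc r⁻¹ * ((p : ↥H) : G) * a
          = r⁻¹ * (((p : ↥H) : G) * a * ((p : ↥H) : G)⁻¹) * ((p : ↥H) : G) := by
            group
        _ = _ := by rw [← e]; group
  obtain ⟨k, hk⟩ := (Cores.pCore_isPGroup (G := ↥H) 3).index St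
  rw [hbij, hk] at hEdvd
  exact absurd ((show Nat.Prime 11 by norm_num).dvd_of_dvd_pow hEdvd) (by norm_num)

end Cfsg.Agent.ThreeTransp.W22
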