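import Cfsg.Agent.Lib.ThreeTransp.W22.Graph

/-!
The eighteen common neighbours, from the unitary part alone.
-/

set_option autoImplicit false
set_option linter.unusedSectionVars false
set_option linter.style.haveILetI false

namespace Cfsg.Agent.ThreeTransp.W22

open Cfsg.Agent.Classical.Unitary
open Cfsg.Agent.ThreeTransp
open Cfsg.Agent.ThreeTransp.Factor (nb Hd mem_Hd)
open Cfsg.Agent.ThreeTransp.RankThree (loc mem_loc Linked)
open Cfsg.Agent.ThreeTransp.M22 (Chart outer)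


variable {G : Type*} [Group G] [Finite G] {D : Set G}
variable (hD : Cfsg.IsThreeTranspositionGroup D)
  (hprim : Cfsg.IsPrimitiveUnderConj D) (h22 : Weak G D)
include hD hprim h22

/-- No outer member commutes with the whole inner neighbourhood of an inner one. -/
theorem not_full {e q x y u : G} (he : e ∈ D) (hq : q ∈ D) (heq : ¬ Commute e q)
    (hy : y ∈ nb D e ∩ nb D q) (hxy : ¬ Commute x y)
    (hu : u ∈ nb D e ∩ nb D q ∩ nb D x) (hx : x ∈ nb D e ∩ nb D q)
    (hfull : nb D e ∩ nb D q ∩ nb D x ⊆ nb D y) : False := by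
  obtain ⟨C⟩ := exists_chart hD h22 hu.1.1.1
  have hxu : x ∈ nb D u := ⟨hx.1.1, hu.2.2.1.symm, hu.2.2.2.symm⟩
  have hyu : y ∈ nb D u := Cover.mem_nb_symm hy.1.1 (hfull hu)
  have heu : e ∈ nb D u := Cover.mem_nb_symm he hu.1.1
  have hqu : q ∈ nb D u := Cover.mem_nb_symm hq hu.1.2
  obtain ⟨vx, hvx0, hvx, fx⟩ := C.cover x hxu
  obtain ⟨vy, hvy0, hvy, fy⟩ := C.cover y hyu
  obtain ⟨ve, hve0, hve, fe⟩ := C.cover e heu
  obtain ⟨vq, hvq0, hvq, fq⟩ := C.cover q hqu
  have com : ∀ {a b : G} {v w : Fin 6 → C.F}, v ≠ 0 → Cfsg.hermForm 6 C.F 2 v v = 0 → w ≠ 0 →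
      Cfsg.hermForm 6 C.F 2 w w = 0 → C.f v = a → C.f w = b →
      (Commute a b ↔ Cfsg.hermForm 6 C.F 2 v w = 0) := by
    intro a b v w h1 h2 h3 h4 h5 h6
    rw [← h5, ← h6]; exact C.comm_iff v w h1 h2 h3 h4
  obtain ⟨p, hp⟩ : (nb D e ∩ nb D q ∩ nb D x ∩ nb D u).Nonempty := Set.nonempty_of_ncard_ne_zero
    ((inner_pair hD hprim h22 he hq heq hx hu).trans_ne (by norm_num))
  obtain ⟨vp, hvp0, hvp, fp⟩ := C.cover p hp.2
  have e1 := (com hve0 hve hvp0 hvp fe fp).1 hp.1.1.1.2.2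
  have e2 := (com hve0 hve hvx0 hvx fe fx).1 hx.1.2.2
  have q1 := (com hvq0 hvq hvp0 hvp fq fp).1 hp.1.1.2.2.2
  have q2 := (com hvq0 hvq hvx0 hvx fq fx).1 hx.2.2.2
  have x1 := (com hvx0 hvx hvp0 hvp fx fp).1 hp.1.2.2.2
  have x2 := (H_eq_zero_comm C.hF).1 x1
  have y1 := (com hvy0 hvy hvp0 hvp fy fp).1 (hfull hp.1).2.2
  have hxp : x ≠ p := fun h => hp.1.2.2.1 h.symm
  obtain ⟨w, hw0, hw, hwx, hwp⟩ : ∃ w : Fin 6 → C.F, w ≠ 0 ∧ w = vp + vx ∧
      (∀ c : C.F, w ≠ c • vx) ∧ Cfsg.hermForm 6 C.F 2 w w = 0 := by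
    have hns : ∀ c : C.F, vp ≠ c • vx := fun c h => hxp (by
      rw [← fx, ← fp]; exact (C.eq_iff vx vp hvx0 hvx hvp0 hvp).2 ⟨c, h⟩)
    refine ⟨vp + vx, fun h => hns (-1) ?_, rfl, fun c h => hns (c - 1) ?_, ?_⟩
    · rw [neg_one_smul]; exact eq_neg_of_add_eq_zero_left h
    · rw [sub_smul, one_smul, ← h, add_sub_cancel_right]
    · simp only [H_add_left, H_add_right C.hF, hvp, hvx, x1, x2, add_zero]
  have hm := C.mem w hw0 hwp
  have hwS : C.f w ∈ nb D e ∩ nb D q ∩ nb D x := by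
    refine ⟨⟨⟨hm.1, fun h => ?_, ?_⟩, hm.1, fun h => ?_, ?_⟩, hm.1, fun h => ?_, ?_⟩
    · have := (com hve0 hve hvq0 hvq fe fq).2
      refine heq ((com hw0 hwp hvq0 hvq h fq).2 ?_)
      rw [hw, H_add_left, (H_eq_zero_comm C.hF).1 q1, (H_eq_zero_comm C.hF).1 q2, add_zero]
    · refine (com hve0 hve hw0 hwp fe rfl).2 ?_
      rw [hw, H_add_right C.hF, e1, e2, add_zero]
    · refine heq ((com hve0 hve hw0 hwp fe h).2 ?_)
      rw [hw, H_add_right C.hF, e1, e2, add_zero]
    · refine (com hvq0 hvq hw0 hwp fq rfl).2 ?_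
      rw [hw, H_add_right C.hF, q1, q2, add_zero]
    · obtain ⟨c, hc⟩ := (C.eq_iff vx w hvx0 hvx hw0 hwp).1 (fx.trans h.symm)
      exact hwx c hc
    · refine (com hvx0 hvx hw0 hwp fx rfl).2 ?_
      rw [hw, H_add_right C.hF, x1, hvx, add_zero]
  have y2 := (com hvy0 hvy hw0 hwp fy rfl).1 (hfull hwS).2.2
  rw [hw, H_add_right C.hF, y1, zero_add] at y2
  exact hxy ((com hvy0 hvy hvx0 hvx fy fx).2 y2).symm

/-- Eighteen common neighbours. -/
theorem eighteen {e q x y : G} (he : e ∈ D) (hq : q ∈ D) (heq : ¬ Commute e q)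
    (hx : x ∈ nb D e ∩ nb D q) (hy : y ∈ nb D e ∩ nb D q) (hxy : ¬ Commute x y) :
    (nb D e ∩ nb D q ∩ nb D x ∩ nb D y).ncard = 18 := by
  classical
  set S : Set G := nb D e ∩ nb D q with hS
  set K : Subgroup G := Subgroup.closure S with hK
  set DK : Set ↥K := {k | (k : G) ∈ S} with hDK
  have hfix : ∀ k : ↥K, Commute (k : G) e ∧ Commute (k : G) q := by
    rintro ⟨k, hk⟩
    induction hk using Subgroup.closure_induction with
    | mem k hk => exact ⟨hk.1.2.2.symm, hk.2.2.2.symm⟩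
    | one => exact ⟨Commute.one_left _, Commute.one_left _⟩
    | mul a b _ _ ha hb => exact ⟨ha.1.mul_left hb.1, ha.2.mul_left hb.2⟩
    | inv a _ ha => exact ⟨ha.1.inv_left, ha.2.inv_left⟩
  have hconj : ∀ (g : G) {a b : G}, g * a * g⁻¹ = a → b ∈ nb D a → g * b * g⁻¹ ∈ nb D a :=
    fun g a b h hb => h ▸ Cover.conj_nb hD g hb
  have hKD : Cfsg.IsThreeTranspositionGroup DK := by
    refine ⟨⟨fun d hd => ?_, fun d hd f hf => ?_⟩, fun g d hd => ?_, ?_⟩
    · rw [← Subgroup.orderOf_coe]; exact hD.1.1 _ hd.1.1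
    · rcases hD.1.2 (d : G) hd.1.1 (f : G) hf.1.1 with h | h
      · exact Or.inl (Subtype.ext h)
      · exact Or.inr (Subtype.ext h)
    · exact ⟨hconj g (RankThree.conj_self_of_commute (hfix g).1.symm) hd.1,
        hconj g (RankThree.conj_self_of_commute (hfix g).2.symm) hd.2⟩
    · exact Subgroup.closure_closure_coe_preimage
  let lift : ∀ z ∈ S, ↥K := fun z hz => ⟨z, Subgroup.subset_closure hz⟩
  set x' : ↥K := lift x hx with hx'
  set M : G → Set G := fun z => S ∩ nb D x ∩ nb D z with hM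
  set O : Set G := {z | z ∈ S ∧ ¬ Commute x z} with hO
  set L : ↥K → ↥K → Prop := fun a b => Linked DK x' a b with hL
  have hcomm : ∀ {a b : ↥K}, Commute a b ↔ Commute (a : G) b := fun {a b} =>
    ⟨fun h => congrArg Subtype.val h.eq, fun h => Subtype.ext h.eq⟩
  -- linked members have equally many inner neighbours
  have hLM : ∀ a b : ↥K, L a b → (M a).ncard = (M b).ncard := by
    rintro a b ⟨g, hg, rfl⟩
    have hgx : Commute x (g : G) := hcomm.1 (RankThree.loc_commute hg)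
    have hgS : ∀ z ∈ S, (g : G) * z * (g : G)⁻¹ ∈ S := fun z hz =>
      ⟨hconj _ (RankThree.conj_self_of_commute (hfix g).1.symm) hz.1,
        hconj _ (RankThree.conj_self_of_commute (hfix g).2.symm) hz.2⟩
    have hgS' : ∀ z ∈ S, (g : G)⁻¹ * z * (g : G) ∈ S := fun z hz => by
      have h1 := hconj _ (RankThree.conj_self_of_commute (hfix g⁻¹).1.symm) hz.1
      have h2 := hconj _ (RankThree.conj_self_of_commute (hfix g⁻¹).2.symm) hz.2
      simp only [Subgroup.coe_inv, inv_inv] at h1 h2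
      exact ⟨h1, h2⟩
    refine (Set.ncard_congr (fun z _ => (g : G) * z * (g : G)⁻¹) ?_ ?_ ?_)
    · rintro z ⟨⟨hzS, hzx⟩, hza⟩
      refine ⟨⟨hgS z hzS, hconj _ (RankThree.conj_self_of_commute hgx) hzx⟩, ?_⟩
      simpa using Cover.conj_nb hD (g : G) hza
    · intro z w _ _ h
      exact mul_left_cancel (mul_right_cancel h)
    · rintro z ⟨⟨hzS, hzx⟩, hzb⟩
      refine ⟨(g : G)⁻¹ * z * (g : G), ⟨⟨hgS' z hzS, ?_⟩, ?_⟩, by group⟩
      · simpa using hconj (g : G)⁻¹ (RankThree.conj_self_of_commute hgx.inv_right) hzx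
      · have h := Cover.conj_nb hD (g : G)⁻¹ hzb
        simpa [mul_assoc] using h
  -- every inner member sees thirty-two outer ones
  have hI : (S ∩ nb D x).ncard = 45 := inner_degree hD hprim h22 he hq heq hx
  have h32 : ∀ u ∈ S ∩ nb D x, (O ∩ nb D u).ncard = 32 := by
    intro u hu
    have h45 := inner_degree hD hprim h22 he hq heq hu.1
    have h12 : (S ∩ nb D x ∩ nb D u).ncard = 12 := inner_pair hD hprim h22 he hq heq hx hu
    have hsplit : S ∩ nb D u = (O ∩ nb D u) ∪ insert x (S ∩ nb D x ∩ nb D u) := by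
      ext z
      constructor
      · rintro ⟨hzS, hzu⟩
        by_cases hxz : Commute x z
        · right
          by_cases h : z = x
          · exact Or.inl h
          · exact Or.inr ⟨⟨hzS, hzS.1.1, h, hxz⟩, hzu⟩
        · exact Or.inl ⟨⟨hzS, hxz⟩, hzu⟩
      · rintro (⟨⟨hzS, -⟩, hzu⟩ | rfl | ⟨⟨hzS, -⟩, hzu⟩)
        exacts [⟨hzS, hzu⟩, ⟨hx, Cover.mem_nb_symm hx.1.1 hu.2⟩, ⟨hzS, hzu⟩]
    have hdis : Disjoint (O ∩ nb D u) (insert x (S ∩ nb D x ∩ nb D u)) := by
      rw [Set.disjoint_left]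
      rintro z ⟨⟨-, hxz⟩, -⟩ (rfl | ⟨⟨-, hzx⟩, -⟩)
      · exact hxz (Commute.refl z)
      · exact hxz hzx.2.2
    rw [show nb D e ∩ nb D q ∩ nb D u = S ∩ nb D u from rfl, hsplit,
      Set.ncard_union_eq hdis (Set.toFinite _) (Set.toFinite _),
      Set.ncard_insert_of_notMem (fun h => h.1.2.2.1 rfl) (Set.toFinite _), h12] at h45
    omega
  have hOcard : O.ncard = 80 := by
    have h := ncard_inter hD hprim h22 he hq heq
    have hsplit : S = O ∪ insert x (S ∩ nb D x) := by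
      ext z
      constructor
      · intro hzS
        by_cases hxz : Commute x z
        · right
          by_cases h : z = x
          · exact Or.inl h
          · exact Or.inr ⟨hzS, hzS.1.1, h, hxz⟩
        · exact Or.inl ⟨hzS, hxz⟩
      · rintro (⟨hzS, -⟩ | rfl | ⟨hzS, -⟩)
        exacts [hzS, hx, hzS]
    have hdis : Disjoint O (insert x (S ∩ nb D x)) := by
      rw [Set.disjoint_left]
      rintro z ⟨-, hxz⟩ (rfl | ⟨-, hzx⟩)
      · exact hxz (Commute.refl z)
      · exact hxz hzx.2.2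
    rw [← hS, hsplit, Set.ncard_union_eq hdis (Set.toFinite _) (Set.toFinite _),
      Set.ncard_insert_of_notMem (fun h => h.2.2.1 rfl) (Set.toFinite _), hI] at h
    omega
  -- double counting
  have hsum : ∑ z ∈ O.toFinite.toFinset, (M z).ncard = 1440 := by
    have h := Finset.sum_card_bipartiteAbove_eq_sum_card_bipartiteBelow
      (s := O.toFinite.toFinset) (t := (S ∩ nb D x).toFinite.toFinset)
      (fun z u => u ∈ nb D z)
    have e1 : ∀ z ∈ O.toFinite.toFinset, (M z).ncard =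
        (Finset.bipartiteAbove (fun z u => u ∈ nb D z) (S ∩ nb D x).toFinite.toFinset z).card := by
      intro z _
      rw [Set.ncard_eq_toFinset_card _ (Set.toFinite _)]
      congr 1
      ext u
      simp [hM]
    rw [Finset.sum_congr rfl e1, h]
    have e2 : ∀ u ∈ (S ∩ nb D x).toFinite.toFinset,
        (Finset.bipartiteBelow (fun z u => u ∈ nb D z) O.toFinite.toFinset u).card = 32 := by
      intro u hu
      rw [Set.Finite.mem_toFinset] at hu
      rw [← h32 u hu, Set.ncard_eq_toFinset_card _ (Set.toFinite _)]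
      congr 1
      ext z
      simp only [Finset.mem_bipartiteBelow, Set.Finite.mem_toFinset, Set.mem_inter_iff]
      exact ⟨fun ⟨hz, hzu⟩ => ⟨hz, Cover.mem_nb_symm hz.1.1.1 hzu⟩,
        fun ⟨hz, hzu⟩ => ⟨hz, Cover.mem_nb_symm hu.1.1.1 hzu⟩⟩
    rw [Finset.sum_congr rfl e2, Finset.sum_const, ← Set.ncard_eq_toFinset_card _ (Set.toFinite _),
      hI, smul_eq_mul]
  suffices hone : ∀ a ∈ O, ∀ b ∈ O, (M a).ncard = (M b).ncard by
    have hyO : y ∈ O := ⟨hy, hxy⟩
    rw [Finset.sum_congr rfl (fun z hz => hone z ((Set.Finite.mem_toFinset _).1 hz) y hyO),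
      Finset.sum_const, ← Set.ncard_eq_toFinset_card _ (Set.toFinite _), hOcard, smul_eq_mul] at hsum
    show (M y).ncard = 18
    omega
  -- the class of a member with most inner neighbours
  obtain ⟨c, hcO, hmax⟩ := Set.exists_max_image O (fun z => (M z).ncard) (Set.toFinite _)
    ⟨y, hy, hxy⟩
  set A : Set G := {z | ∃ hz : z ∈ O, L (lift c hcO.1) (lift z hz.1)} with hA
  have hAm : ∀ z ∈ A, (M z).ncard = (M c).ncard := fun z ⟨hz, hl⟩ => (hLM _ _ hl).symm
  by_contra hne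
  have hout : ∀ b ∈ O, b ∉ A → ∀ a ∈ A, M b ⊆ M a := by
    rintro b hbO hb a ⟨haO, hla⟩
    set a' := lift a haO.1
    set b' := lift b hbO.1
    have hn : ¬ L a' b' := fun h => hb ⟨hbO, hla.trans h⟩
    have hax' : ¬ Commute x' a' := fun h => haO.2 (hcomm.1 h)
    have hbx' : ¬ Commute x' b' := fun h => hbO.2 (hcomm.1 h)
    have hab : ¬ Commute a' b' := fun h =>
      hn (RankThree.linked_of_commute hKD (show x' ∈ DK from hx) haO.1 hbO.1 hax' hbx' h)
    have h3 : ¬ Commute x' (b' * a' * b') := fun h =>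
      hn (RankThree.linked_of_third hKD (p := b') (q := a') hbO.1 haO.1 (fun h' => hab h'.symm) h)
    have hb3 : b' * a' * b' = a' * b' * a' :=
      (RankThree.braid3 hKD (p := a') (q := b') haO.1 hbO.1 hab).symm
    rcases Classical.em (M b ⊆ M a) with h | h
    · exact h
    intro w hw
    obtain ⟨u, hu, hua⟩ := Set.not_subset.1 h
    by_contra hwa
    have hsub : M a ⊆ M b := by
      intro v hv
      by_contra hvb
      refine hn ?_
      have huA : ¬ Commute u a := fun hc =>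
        hua ⟨hu.1, hu.1.1.1.1, fun e => haO.2 (e ▸ hu.1.2.2.2), hc.symm⟩
      have hvB : ¬ Commute v b := fun hc =>
        hvb ⟨hv.1, hv.1.1.1.1, fun e => hbO.2 (e ▸ hv.1.2.2.2), hc.symm⟩
      have l1 := RankThree.linked_third_of_local hKD (a := x') (c := b') (y := a')
        (x := lift u hu.1.1) (show x' ∈ DK from hx) hbO.1 haO.1 hu.1.1 hax'
        (fun h => hab h.symm) (by rw [← hb3]; exact h3)
        (hcomm.2 hu.1.2.2.2) (hcomm.2 hu.2.2.2.symm) (fun h => huA (hcomm.1 h))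
      have l2 := RankThree.linked_third_of_local hKD (a := x') (c := a') (y := b')
        (x := lift v hv.1.1) (show x' ∈ DK from hx) haO.1 hbO.1 hv.1.1 hbx' hab h3
        (hcomm.2 hv.1.2.2.2) (hcomm.2 hv.2.2.2.symm) (fun h => hvB (hcomm.1 h))
      rw [← hb3] at l1
      exact Linked.trans l1 l2.symm
    have hle : (M b).ncard ≤ (M a).ncard := by rw [hAm a ⟨haO, hla⟩]; exact hmax b hbO
    exact hwa (Set.eq_of_subset_of_ncard_le hsub hle (Set.toFinite _) ▸ hw)
  have hAO : A ⊆ O := fun z ⟨hz, _⟩ => hz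
  have hcA : c ∈ A := ⟨hcO, Linked.refl _ _⟩
  have h45 : (M c).ncard < 45 := by
    rw [← hI]
    refine Set.ncard_lt_ncard ⟨Set.inter_subset_left, fun hfull => ?_⟩ (Set.toFinite _)
    obtain ⟨u, hu⟩ : (S ∩ nb D x).Nonempty :=
      Set.nonempty_of_ncard_ne_zero (hI.trans_ne (by norm_num))
    exact not_full hD hprim h22 he hq heq hcO.1 hcO.2 hu hx fun z hz => (hfull hz).2
  have hnotall : A ≠ O := by
    intro h
    apply hne
    intro a ha b hb
    rw [hAm a (h ▸ ha), hAm b (h ▸ hb)]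
  have hcov : ∀ (s : Set G), s ⊆ O → (∀ z ∈ O \ A, M z = ∅) → A.ncard * (M c).ncard = 1440 := by
    intro s _ hz
    rw [← hsum, ← Finset.sum_subset (s₁ := A.toFinite.toFinset)
      (fun z hz' => (Set.Finite.mem_toFinset _).2 (hAO ((Set.Finite.mem_toFinset _).1 hz')))
      (fun z hzO hzA => by
        rw [Set.Finite.mem_toFinset] at hzO hzA
        rw [hz z ⟨hzO, hzA⟩, Set.ncard_empty]),
      Finset.sum_congr rfl (fun z hz' => hAm z ((Set.Finite.mem_toFinset _).1 hz')),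
      Finset.sum_const, ← Set.ncard_eq_toFinset_card _ (Set.toFinite _), smul_eq_mul]
  by_cases hex : ∃ b ∈ O, b ∉ A ∧ (M b).Nonempty
  · obtain ⟨b, hbO, hbA, u, hu⟩ := hex
    -- such a common neighbour commutes with the whole class and with `b`
    have hle : (insert b A).ncard ≤ 32 := by
      rw [← h32 u hu.1]
      refine Set.ncard_le_ncard ?_ (Set.toFinite _)
      rintro z (rfl | hz)
      · exact ⟨hbO, Cover.mem_nb_symm hbO.1.1.1 hu.2⟩
      · exact ⟨hAO hz, Cover.mem_nb_symm (hAO hz).1.1.1 (hout b hbO hbA z hz hu).2⟩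
    rw [Set.ncard_insert_of_notMem hbA (Set.toFinite _)] at hle
    obtain ⟨w, hw, hwc⟩ : ∃ w ∈ S ∩ nb D x, w ∉ M c := by
      by_contra! hall
      have := Set.ncard_le_ncard (s := S ∩ nb D x) (t := M c) hall (Set.toFinite _)
      omega
    have h2 := h32 w hw
    have hsubA : O ∩ nb D w ⊆ A := by
      rintro z ⟨hzO, hzw⟩
      by_contra hzA
      exact hwc (hout z hzO hzA c hcA ⟨hw, Cover.mem_nb_symm hw.1.1.1 hzw⟩)
    have := Set.ncard_le_ncard hsubA (Set.toFinite _)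
    omega
  · push Not at hex
    have hmul := hcov ∅ (Set.empty_subset _) fun z hz => hex z hz.1 hz.2
    obtain ⟨b, hbO, hbA⟩ : ∃ b ∈ O, b ∉ A := Set.exists_of_ssubset (hAO.ssubset_of_ne hnotall)
    have hb45 := inner_degree hD hprim h22 he hq heq hbO.1
    have hsub : insert b (S ∩ nb D b) ⊆ O \ A := by
      rintro z (rfl | ⟨hzS, hzb⟩)
      · exact ⟨hbO, hbA⟩
      have hzx : ¬ Commute x z := by
        intro h
        have hzx' : z ≠ x := fun e => hbO.2 (e ▸ hzb.2.2.symm)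
        have : z ∈ M b := ⟨⟨hzS, hzS.1.1, hzx', h⟩, hzb⟩
        rw [hex b hbO hbA] at this
        exact this
      refine ⟨⟨hzS, hzx⟩, fun ⟨hz, hl⟩ => hbA ⟨hbO, hl.trans ?_⟩⟩
      exact RankThree.linked_of_commute hKD (show x' ∈ DK from hx) hzS hbO.1
        (fun h => hzx (hcomm.1 h)) (fun h => hbO.2 (hcomm.1 h)) (hcomm.2 hzb.2.2.symm)
    have h1 := Set.ncard_le_ncard hsub (Set.toFinite _)
    rw [Set.ncard_insert_of_notMem (fun h => h.2.2.1 rfl) (Set.toFinite _),
      Set.ncard_sdiff hAO (Set.toFinite _), hOcard,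
      show (S ∩ nb D b).ncard = 45 from hb45] at h1
    have h2 : A.ncard ≤ 34 := by omega
    interval_cases A.ncard <;> omega


end Cfsg.Agent.ThreeTransp.W22
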