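import Cfsg.Agent.Lib.ThreeTransp.W22.Triples
import Cfsg.Agent.Lib.ThreeTransp.M22.Local

/-!
The local facts on one member, from the unitary part alone.
-/

set_option autoImplicit false
set_option linter.unusedSectionVars false

namespace Cfsg.Agent.ThreeTransp.W22

open Matrix Cfsg.Agent.Classical.Unitary
open Cfsg.Agent.Forms
open Cfsg.Agent.GroupStructure3.ThreeTransUnitary
open Cfsg.Agent.ThreeTransp
open Cfsg.Agent.ThreeTransp.Factor (Hd Dl Dq Sd Sep nb mem_Hd Hd_commute grp_Dl commute_Dl)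
open Cfsg.Agent.ThreeTransp.Factor.UnitarySix (exists_vec exists_sep)
open Cfsg.Agent.ThreeTransp.RankThree (loc)
open Cfsg.Agent.ThreeTransp.M22 (Chart)

universe u

variable {G : Type u} [Group G] {D : Set G}

section

variable [Finite G] (hD : Cfsg.IsThreeTranspositionGroup D) (h22 : Weak G D)
include hD h22

theorem exists_chart {a : G} (ha : a ∈ D) : Nonempty (Chart D a) := by
  classical
  obtain ⟨-, hat⟩ := core22 hD h22
  obtain ⟨hsep, hne, F, i1, i2, hF, ⟨φ⟩⟩ := hat a ha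
  haveI := Factor.UnitarySix.simple_PSU hF
  set E := φ '' Dq D a with hE
  have hEg : Cfsg.IsThreeTranspositionGroup E := Factor.grp_image φ (Factor.grp_Dq hD hne)
  obtain ⟨ρ, hρ⟩ : ∃ ρ : ↥(Hd D a) →* Cfsg.PSU 6 F 2,
      ρ = φ.toMonoidHom.comp (QuotientGroup.mk' _) := ⟨_, rfl⟩
  have hρa : ∀ x, ρ x = φ (QuotientGroup.mk x) := fun x => by rw [hρ]; rfl
  have hinj : ∀ x ∈ Dl D a, ∀ y ∈ Dl D a, ρ x = ρ y → x = y := fun x hx y hy h =>
    hsep x hx y hy (φ.injective (by rwa [hρa, hρa] at h))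
  obtain ⟨x₀, hx₀⟩ : E.Nonempty := by
    rw [Set.nonempty_iff_ne_empty]
    intro he
    have h := hEg.2.2
    rw [he, Subgroup.closure_empty] at h
    exact bot_ne_top h
  obtain ⟨v₀, hv₀, hv₀0, rfl⟩ := exists_vec hF hEg hx₀
  have hall : ∀ v : Fin 6 → F, ∃ x : G, ∀ (_ : v ≠ 0) (hv : Cfsg.hermForm 6 F 2 v v = 0),
      ∃ hx : x ∈ nb D a, ρ ⟨x, mem_Hd hx⟩ = QuotientGroup.mk' _ (tr hF hv) := by
    intro v
    by_cases hv : v ≠ 0 ∧ Cfsg.hermForm 6 F 2 v v = 0
    · obtain ⟨k, c, hk⟩ := exists_su_point hF hv₀0 hv.1 hv₀ hv.2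
      have hc : c ≠ 0 := by
        rintro rfl
        rw [zero_smul] at hk
        exact mat_mulVec_ne_zero k hv₀0 hk
      obtain ⟨hcv, ecv⟩ := UnitaryPoints.tr_scale hF hv.2 hc
      have hmem : QuotientGroup.mk' (Subgroup.center (Cfsg.SU 6 F 2)) (tr hF hv.2) ∈ E := by
        rw [← ecv, ← tr_conj hF k hv₀ hcv hk, map_mul, map_mul, map_inv]
        exact hEg.2.1 _ _ hx₀
      obtain ⟨_, ⟨x, hx, rfl⟩, hxe⟩ := hmem
      exact ⟨x, fun _ _ => ⟨hx, (hρa x).trans hxe⟩⟩
    · exact ⟨1, fun h1 h2 => absurd ⟨h1, h2⟩ hv⟩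
  choose f hf using hall
  have hmem : ∀ v : Fin 6 → F, v ≠ 0 → Cfsg.hermForm 6 F 2 v v = 0 → f v ∈ nb D a :=
    fun v h0 hv => (hf v h0 hv).choose
  have himg : ∀ (v : Fin 6 → F) (h0 : v ≠ 0) (hv : Cfsg.hermForm 6 F 2 v v = 0),
      ρ ⟨f v, mem_Hd (hmem v h0 hv)⟩ = QuotientGroup.mk' _ (tr hF hv) :=
    fun v h0 hv => (hf v h0 hv).choose_spec
  refine ⟨{ F := F
            hF := hF
            ρ := ρ
            surj := ?_
            ker := ?_
            inj := hinj
            f := f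
            «mem» := hmem
            img := himg
            cover := ?_
            eq_iff := ?_
            comm_iff := ?_ }⟩
  · rw [hρ]; exact φ.surjective.comp (QuotientGroup.mk'_surjective _)
  · ext x
    rw [MonoidHom.mem_ker, hρa, φ.map_eq_one_iff, QuotientGroup.eq_one_iff]
  · intro x hx
    obtain ⟨v, hv, hv0, he⟩ := exists_vec hF hEg
      (show φ (QuotientGroup.mk (⟨x, mem_Hd hx⟩ : ↥(Hd D a))) ∈ E from
        ⟨_, ⟨⟨x, mem_Hd hx⟩, hx, rfl⟩, rfl⟩)
    exact ⟨v, hv0, hv, congrArg Subtype.val (hinj ⟨f v, mem_Hd (hmem v hv0 hv)⟩ (hmem v hv0 hv)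
      ⟨x, mem_Hd hx⟩ hx ((himg v hv0 hv).trans (he.symm.trans (hρa _).symm)))⟩
  · intro v w hv0 hv hw0 hw
    constructor
    · intro e
      have h1 : ρ ⟨f v, mem_Hd (hmem v hv0 hv)⟩ = ρ ⟨f w, mem_Hd (hmem w hw0 hw)⟩ :=
        congrArg ρ (Subtype.ext e)
      rw [himg v hv0 hv, himg w hw0 hw] at h1
      have e' := Factor.UnitarySix.tr_eq_of_mk hF hv hw h1
      obtain ⟨x, -, hx⟩ := exists_sep hF (S := (∅ : Set (Fin 6 → F))) (v := w)
        (by simpa using hw0)
      have e'' := congrArg (fun g => mat g *ᵥ x) e'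
      simp only [tr_mulVec, hx, one_smul, add_right_inj] at e''
      exact ⟨_, e''.symm⟩
    · rintro ⟨c, hc⟩
      refine congrArg Subtype.val (hinj ⟨f v, mem_Hd (hmem v hv0 hv)⟩ (hmem v hv0 hv)
        ⟨f w, mem_Hd (hmem w hw0 hw)⟩ (hmem w hw0 hw) ?_)
      rw [himg v hv0 hv, himg w hw0 hw, Factor.UnitarySix.tr_eq_of_smul hF hv hw hw0 hc]
  · intro v w hv0 hv hw0 hw
    constructor
    · intro h
      refine Factor.UnitarySix.tr_comm_of_mk hF hv hw hv0 hw0 ?_
      rw [← himg v hv0 hv, ← himg w hw0 hw]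
      exact (show Commute (⟨f v, _⟩ : ↥(Hd D a)) ⟨f w, _⟩ from Subtype.ext h.eq).map ρ
    · intro h
      refine commute_Dl hD (x := ⟨f v, mem_Hd (hmem v hv0 hv)⟩)
        (y := ⟨f w, mem_Hd (hmem w hw0 hw)⟩) (hmem v hv0 hv) (hmem w hw0 hw) ?_
      have h1 := ((UnitaryPoints.tr_commute_iff hF hv hw hv0 hw0).2 h).map
        (QuotientGroup.mk' (Subgroup.center (Cfsg.SU 6 F 2)))
      rw [← himg v hv0 hv, ← himg w hw0 hw, hρa, hρa] at h1
      have h2 := h1.map φ.symm
      rwa [φ.symm_apply_apply, φ.symm_apply_apply] at h2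

end

section

variable [Finite G] (hD : Cfsg.IsThreeTranspositionGroup D)
  (hprim : Cfsg.IsPrimitiveUnderConj D) (h22 : Weak G D)
include hD hprim h22

/-- Two different commuting members exist. -/
theorem exists_commuting : ∃ a ∈ D, ∃ b ∈ D, a ≠ b ∧ Commute a b := by
  obtain ⟨a, ha, -⟩ := hprim.2.1
  obtain ⟨C⟩ := exists_chart hD h22 ha
  obtain ⟨b, hb⟩ := Set.nonempty_of_ncard_ne_zero (C.ncard_nb.trans_ne (by norm_num : (693 : ℕ) ≠ 0))
  exact ⟨a, ha, b, hb.1, Ne.symm hb.2.1, hb.2.2⟩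

/-- Every member is a product of members commuting with it. -/
theorem mem_Hd_self {a : G} (ha : a ∈ D) : a ∈ Hd D a := by
  obtain ⟨C⟩ := exists_chart hD h22 ha
  obtain ⟨b, hb⟩ := Set.nonempty_of_ncard_ne_zero (C.ncard_nb.trans_ne (by norm_num : (693 : ℕ) ≠ 0))
  obtain ⟨c, hc, hcb⟩ := Set.nonempty_of_ncard_ne_zero
    ((C.ncard_one hb).trans_ne (by norm_num : (180 : ℕ) ≠ 0))
  obtain ⟨x, y, z, hx, hy, hz, -, -, -, he⟩ := exists_other hD hprim h22 ha hb.1 hc.1
    (Ne.symm hb.2.1) (Ne.symm hc.2.1) (Ne.symm hcb.2.1) hb.2.2 hc.2.2 hcb.2.2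
  have hm : ∀ q, Factor.Third D a b c q → q ∈ Hd D a := fun q hq =>
    mem_Hd ⟨hq.1, hq.2.1.1, hq.2.2.1.1.symm⟩
  have : a = x * y * z * c⁻¹ * b⁻¹ := by rw [← he]; group
  have hp := mul_mem (mul_mem (mul_mem (mul_mem (hm x hx) (hm y hy)) (hm z hz))
    (inv_mem (mem_Hd hc))) (inv_mem (mem_Hd hb))
  rwa [← this] at hp

theorem loc_eq {a : G} (ha : a ∈ D) : loc D a = Hd D a := by
  refine le_antisymm ((Subgroup.closure_le _).2 fun y hy => ?_)
    (Subgroup.closure_mono fun y hy => ⟨hy.1, hy.2.2⟩)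
  by_cases e : y = a
  · rw [e]; exact mem_Hd_self hD hprim h22 ha
  · exact mem_Hd ⟨hy.1, e, hy.2⟩

/-- Nothing but the member centralises its local subgroup. -/
theorem centralizes_loc {a z : G} (ha : a ∈ D) (hz : ∀ h ∈ loc D a, Commute z h) :
    z = 1 ∨ z = a := by
  have hw := exists_commuting hD hprim h22
  obtain ⟨c, hc, hac⟩ := Classes.exists_noncomm hD hprim.1 hprim.2.1 ha
  obtain ⟨x, hx, hax, hxc⟩ := RankThree.exists_common hD hprim hw ha hc hac
  have hxa : x ≠ a := fun e => hac (e ▸ hxc)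
  have hxc' : x ≠ c := fun e => hac (e ▸ hax)
  obtain ⟨C⟩ := exists_chart hD h22 hx
  have hza : Commute z a := hz a (RankThree.mem_loc ha (Commute.refl a))
  have hzx : Commute z x := hz x (RankThree.mem_loc hx hax)
  have hzc : z * c * z⁻¹ ∈ nb D x :=
    Chart.conj_mem_nb hD hzx ⟨hc, Ne.symm hxc', hxc⟩
  have key := C.hull hD (x := a) (z := c) (y := z * c * z⁻¹) ⟨ha, hxa.symm, hax.symm⟩
    ⟨hc, Ne.symm hxc', hxc⟩ hac hzc (by
      rintro t ⟨⟨-, ht⟩, htc⟩
      have hzt : z * t * z⁻¹ = t := mul_inv_eq_iff_eq_mul.2 (hz t (RankThree.mem_loc ht.1 ht.2.2)).eq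
      have := (Basic.commute_conj (g := z)).2 htc.2.2
      rwa [hzt] at this)
  have main : ∀ w : G, (∀ h ∈ loc D a, Commute w h) → Commute w c → w = 1 := by
    intro w hw1 hw2
    rw [← Subgroup.mem_bot, ← h22.center, Subgroup.mem_center_iff]
    intro g
    have hle : Subgroup.closure ({y : G | y ∈ D ∧ Commute a y} ∪ {c}) ≤
        Subgroup.centralizer ({w} : Set G) := by
      rw [Subgroup.closure_le]
      rintro y hy
      rw [SetLike.mem_coe, Subgroup.mem_centralizer_iff]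
      rintro _ rfl
      rcases hy with hy | rfl
      · exact (hw1 y (RankThree.mem_loc hy.1 hy.2)).eq
      · exact hw2.eq
    rw [RankThree.closure_eq_top hD hprim hw ha hc hac] at hle
    exact (Subgroup.mem_centralizer_iff.1 (hle (Subgroup.mem_top g)) w rfl).symm
  rcases key with h | h | h
  · exfalso
    refine hac ?_
    have e : z * a * z⁻¹ = a := mul_inv_eq_iff_eq_mul.2 hza.eq
    exact (mul_left_cancel (mul_right_cancel (h.trans e.symm))) ▸ Commute.refl a
  · exact Or.inl (main z hz (mul_inv_eq_iff_eq_mul.1 h))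
  · right
    have h1 := main (a * z) (fun t ht => ((RankThree.loc_commute ht)).mul_left (hz t ht)) (by
      show a * z * c = c * (a * z)
      calc a * z * c = a * (z * c * z⁻¹) * z := by group
        _ = (a * a) * c * (a * z) := by rw [h]; simp [mul_assoc]
        _ = c * (a * z) := by rw [Classes.sq hD ha, one_mul])
    calc z = (a * a) * z := by rw [Classes.sq hD ha, one_mul]
      _ = a * (a * z) := mul_assoc _ _ _
      _ = a := by rw [h1, mul_one]

/-- The centre of the local subgroup. -/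
theorem center_eq {a : G} (ha : a ∈ D) :
    Subgroup.center ↥(Hd D a) = (Subgroup.zpowers a).subgroupOf (Hd D a) := by
  ext z
  rw [Subgroup.mem_subgroupOf]
  constructor
  · intro hz
    rcases centralizes_loc hD hprim h22 ha (z := (z : G)) (fun h hh => by
        rw [loc_eq hD hprim h22 ha] at hh
        exact (congrArg Subtype.val (Subgroup.mem_center_iff.1 hz ⟨h, hh⟩)).symm) with e | e
    · rw [e]; exact one_mem _
    · rw [e]; exact Subgroup.mem_zpowers a
  · intro hz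
    rw [Subgroup.mem_center_iff]
    intro h
    obtain ⟨k, hk⟩ := Subgroup.mem_zpowers_iff.1 hz
    refine Subtype.ext ?_
    simp only [Subgroup.coe_mul, ← hk]
    exact ((Hd_commute h.2).zpow_left k).eq.symm

theorem card_loc {a : G} (ha : a ∈ D) : Nat.card ↥(loc D a) = 18393661440 := by
  obtain ⟨C⟩ := exists_chart hD h22 ha
  rw [loc_eq hD hprim h22 ha,
    Subgroup.card_eq_card_quotient_mul_card_subgroup (Subgroup.center ↥(Hd D a)),
    Nat.card_congr ((QuotientGroup.quotientMulEquivOfEq C.ker.symm).trans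
      (QuotientGroup.quotientKerEquivOfSurjective C.ρ C.surj)).toEquiv,
    center_eq hD hprim h22 ha, Nat.card_congr (Subgroup.subgroupOfEquivOfLe
      (Subgroup.zpowers_le.2 (mem_Hd_self hD hprim h22 ha))).toEquiv, Nat.card_zpowers,
    hD.1.1 a ha]
  have h := natCard_PSU_mul (n := 6) (q := 2) (F := C.F) C.hF (by norm_num)
  rw [natCard_GU C.hF, show Nat.gcd 6 (2 + 1) = 3 from rfl] at h
  simp [Finset.prod_range_succ, Nat.even_iff] at h
  omega

/-- Local elements centralising a neighbour lie in the neighbour's local subgroup. -/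
theorem loc_inf {w a h : G} (hw : w ∈ D) (ha : a ∈ nb D w) (hh : h ∈ loc D w)
    (hha : Commute h a) : h ∈ loc D a := by
  obtain ⟨C⟩ := exists_chart hD h22 hw
  rw [loc_eq hD hprim h22 hw] at hh
  obtain ⟨v, hv0, hv, rfl⟩ := C.cover a ha
  obtain ⟨g, hg⟩ := QuotientGroup.mk'_surjective _ (C.ρ ⟨h, hh⟩)
  have e := C.f_conj hD (h := ⟨h, hh⟩) hg.symm hv0 hv
  rw [show h * C.f v * h⁻¹ = C.f v from mul_inv_eq_iff_eq_mul.2 hha.eq] at e
  obtain ⟨c, hc⟩ := (C.eq_iff v _ hv0 hv (mat_mulVec_ne_zero g hv0) (by rw [SU_H, hv])).1 e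
  obtain ⟨k, hk, hkg⟩ := M22.Stab.point_stab C.hF hv hv0 hc
  set M : Subgroup ↥(Hd D w) := (loc D (C.f v)).subgroupOf (Hd D w) with hM
  have hkM : QuotientGroup.mk' _ k ∈ M.map C.ρ := by
    clear hkg hg e
    induction hk using Subgroup.closure_induction with
    | one => rw [map_one]; exact one_mem _
    | mul p q _ _ hp hq => rw [map_mul]; exact mul_mem hp hq
    | inv p _ hp => rw [map_inv]; exact inv_mem hp
    | mem t ht =>
      obtain ⟨u, hu, huv, rfl⟩ := ht
      by_cases hu0 : u = 0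
      · rw [show tr C.hF hu = 1 from SU_ext fun x => by
          rw [tr_mulVec, mat_one, one_mulVec, hu0, smul_zero, add_zero], map_one]
        exact one_mem _
      · exact ⟨⟨C.f u, mem_Hd (C.mem u hu0 hu)⟩, RankThree.mem_loc (C.mem u hu0 hu).1
          ((C.comm_iff u v hu0 hu hv0 hv).2 huv).symm, C.img u hu0 hu⟩
  rw [hkg, hg] at hkM
  obtain ⟨m, hm, hmh⟩ := hkM
  have hz : m⁻¹ * ⟨h, hh⟩ ∈ Subgroup.center ↥(Hd D w) := by
    rw [← C.ker, MonoidHom.mem_ker, map_mul, map_inv, hmh, inv_mul_cancel]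
  rw [center_eq hD hprim h22 hw, Subgroup.mem_subgroupOf] at hz
  have hwa : w ∈ loc D (C.f v) := RankThree.mem_loc hw ha.2.2.symm
  have := mul_mem (Subgroup.mem_subgroupOf.1 hm)
    ((Subgroup.zpowers_le.2 hwa) hz)
  simpa using this

end

end Cfsg.Agent.ThreeTransp.W22
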