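import Cfsg.Agent.Lib.ThreeTransp.W22.Defs
import Cfsg.Agent.Lib.ThreeTransp.Factor.Triples

/-!
The hexad of three commuting members, from the unitary part alone.
-/

set_option autoImplicit false
set_option linter.unusedSectionVars false

namespace Cfsg.Agent.ThreeTransp.W22

open Cfsg.Agent.ThreeTransp
open Cfsg.Agent.ThreeTransp.Factor

variable {G : Type*} [Group G] {D : Set G}

/-- The hexad of three commuting members, seen from one of them. -/
theorem hexad [Finite G] (hD : Cfsg.IsThreeTranspositionGroup D) (h22 : Weak G D)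
    {a b c : G} (ha : a ∈ D) (hb : b ∈ D) (hc : c ∈ D) (hab : a ≠ b) (hac : a ≠ c) (hbc : b ≠ c)
    (cab : Commute a b) (cac : Commute a c) (cbc : Commute b c) :
    ∃ x y z : G, Third D a b c x ∧ Third D a b c y ∧ Third D a b c z ∧ [a, b, c, x, y, z].Nodup ∧
      (Commute x y ∧ Commute x z ∧ Commute y z) ∧
      (∀ q, Third D a b c q → q = x ∨ q = y ∨ q = z) ∧
      ∀ h ∈ RankThree.loc D a, Commute h (a * b * c * x * y * z) := by
  obtain ⟨-, hat⟩ := core22 hD h22
  obtain ⟨hsep, hne, F, i1, i2, hF, ⟨φ⟩⟩ := hat a ha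
  set π := QuotientGroup.mk' (Subgroup.center ↥(Hd D a)) with hπ
  set E := φ '' Dq D a with hE
  have hEg : Cfsg.IsThreeTranspositionGroup E := grp_image φ (grp_Dq hD hne)
  set b' : ↥(Hd D a) := ⟨b, mem_Hd ⟨hb, hab.symm, cab⟩⟩ with hb'
  set c' : ↥(Hd D a) := ⟨c, mem_Hd ⟨hc, hac.symm, cac⟩⟩ with hc'
  have hbD : b' ∈ Dl D a := ⟨hb, hab.symm, cab⟩
  have hcD : c' ∈ Dl D a := ⟨hc, hac.symm, cac⟩
  have hinj : ∀ x ∈ Dl D a, ∀ y ∈ Dl D a, φ (π x) = φ (π y) → x = y := fun x hx y hy h =>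
    hsep x hx y hy (φ.injective h)
  have hcm : ∀ x ∈ Dl D a, ∀ y ∈ Dl D a, Commute (φ (π x)) (φ (π y)) → Commute (x : G) y :=
    fun x hx y hy h => commute_Dl hD hx hy (by
      have := h.map φ.symm
      rw [φ.symm_apply_apply, φ.symm_apply_apply] at this
      exact this)
  have hmE : ∀ x ∈ Dl D a, φ (π x) ∈ E := fun x hx => ⟨_, ⟨x, hx, rfl⟩, rfl⟩
  have hbc' : φ (π b') ≠ φ (π c') := fun h =>
    hbc (congrArg Subtype.val (hinj _ hbD _ hcD h))
  have hcbc : Commute (φ (π b')) (φ (π c')) :=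
    ((show Commute b' c' from Subtype.ext cbc.eq).map π).map φ
  obtain ⟨_, _, _, ⟨_, ⟨x, hx, rfl⟩, rfl⟩, ⟨_, ⟨y, hy, rfl⟩, rfl⟩, ⟨_, ⟨z, hz, rfl⟩, rfl⟩,
    hnd, hperp, hrel, hcompl⟩ := UnitarySix.line hF hEg (hmE b' hbD) (hmE c' hcD) hbc' hcbc
  change [φ (π b'), φ (π c'), φ (π x), φ (π y), φ (π z)].Nodup at hnd
  change ∀ f ∈ E, Commute f (φ (π b')) → Commute f (φ (π c')) →
    Commute f (φ (π x)) ∧ Commute f (φ (π y)) ∧ Commute f (φ (π z)) at hperp
  change φ (π b') * φ (π c') * φ (π x) * φ (π y) * φ (π z) = 1 at hrel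
  change ∀ q ∈ E, Commute q (φ (π b')) → Commute q (φ (π c')) →
    (∀ f ∈ E, Commute f (φ (π b')) → Commute f (φ (π c')) → Commute f q) →
      q = φ (π b') ∨ q = φ (π c') ∨ q = φ (π x) ∨ q = φ (π y) ∨ q = φ (π z) at hcompl
  have hb2 := hperp _ (hmE b' hbD) (Commute.refl _) hcbc
  have hc2 := hperp _ (hmE c' hcD) hcbc.symm (Commute.refl _)
  have hx2 := hperp _ (hmE x hx) hb2.1.symm hc2.1.symm
  have hy2 := hperp _ (hmE y hy) hb2.2.1.symm hc2.2.1.symm
  have hndG : [b, c, (x : G), (y : G), (z : G)].Nodup := by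
    have h := List.Nodup.of_map (l := [b', c', x, y, z]) (fun w => φ (π w)) hnd
    exact h.map Subtype.val_injective
  have hthird : ∀ w : ↥(Hd D a), w ∈ Dl D a → φ (π w) ≠ φ (π b') → φ (π w) ≠ φ (π c') →
      (∀ f ∈ E, Commute f (φ (π b')) → Commute f (φ (π c')) → Commute f (φ (π w))) →
      Third D a b c w := by
    intro w hw hwb hwc hall
    refine ⟨hw.1, ⟨hw.2.1, fun e => hwb ?_, fun e => hwc ?_⟩,
      ⟨hw.2.2.symm, ?_, ?_⟩, fun f hf hfa hfb hfc => ?_⟩
    · rw [show w = b' from Subtype.ext e]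
    · rw [show w = c' from Subtype.ext e]
    · exact (hcm b' hbD w hw (hall _ (hmE b' hbD) (Commute.refl _) hcbc)).symm
    · exact (hcm c' hcD w hw (hall _ (hmE c' hcD) hcbc.symm (Commute.refl _))).symm
    · by_cases hfa' : f = a
      · rw [hfa']; exact hw.2.2
      have hfD : (⟨f, mem_Hd ⟨hf, hfa', hfa.symm⟩⟩ : ↥(Hd D a)) ∈ Dl D a := ⟨hf, hfa', hfa.symm⟩
      exact hcm _ hfD w hw (hall _ (hmE _ hfD)
        (((show Commute (⟨f, _⟩ : ↥(Hd D a)) b' from Subtype.ext hfb.eq).map π).map φ)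
        (((show Commute (⟨f, _⟩ : ↥(Hd D a)) c' from Subtype.ext hfc.eq).map π).map φ))
  simp only [List.nodup_cons, List.mem_cons, List.not_mem_nil, or_false, not_or, List.nodup_nil,
    and_true, not_false_eq_true] at hnd
  obtain ⟨⟨-, nbx, nby, nbz⟩, ⟨ncx, ncy, ncz⟩, -, -⟩ := hnd
  refine ⟨x, y, z, hthird x hx (Ne.symm nbx) (Ne.symm ncx) (fun f hf h1 h2 => (hperp f hf h1 h2).1),
    hthird y hy (Ne.symm nby) (Ne.symm ncy) (fun f hf h1 h2 => (hperp f hf h1 h2).2.1),
    hthird z hz (Ne.symm nbz) (Ne.symm ncz) (fun f hf h1 h2 => (hperp f hf h1 h2).2.2),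
    ?_, ⟨hcm x hx y hy hx2.2.1, hcm x hx z hz hx2.2.2, hcm y hy z hz hy2.2.2⟩, ?_, ?_⟩
  · refine List.nodup_cons.2 ⟨?_, hndG⟩
    simp only [List.mem_cons, List.not_mem_nil, or_false, not_or]
    exact ⟨hab, hac, Ne.symm hx.2.1, Ne.symm hy.2.1, Ne.symm hz.2.1⟩
  · rintro q ⟨hqD, ⟨hqa, hqb, hqc⟩, ⟨cqa, cqb, cqc⟩, hq⟩
    have hqm : (⟨q, mem_Hd ⟨hqD, hqa, cqa.symm⟩⟩ : ↥(Hd D a)) ∈ Dl D a := ⟨hqD, hqa, cqa.symm⟩
    generalize hq' : (⟨q, mem_Hd ⟨hqD, hqa, cqa.symm⟩⟩ : ↥(Hd D a)) = q' at hqm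
    have hqv : (q' : G) = q := by rw [← hq']
    rcases hcompl (φ (π q')) (hmE q' hqm)
        (((show Commute q' b' from Subtype.ext (by rw [← hq']; exact cqb.eq)).map π).map φ)
        (((show Commute q' c' from Subtype.ext (by rw [← hq']; exact cqc.eq)).map π).map φ)
        (by
          rintro _ ⟨_, ⟨f, hf, rfl⟩, rfl⟩ h1 h2
          have := hq f hf.1 hf.2.2.symm (hcm f hf b' hbD h1) (hcm f hf c' hcD h2)
          exact ((show Commute f q' from Subtype.ext (by rw [← hq']; exact this.eq)).map π).map φ)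
      with h | h | h | h | h
    · exact absurd (hqv ▸ congrArg Subtype.val (hinj _ hqm _ hbD h)) hqb
    · exact absurd (hqv ▸ congrArg Subtype.val (hinj _ hqm _ hcD h)) hqc
    · exact Or.inl (hqv ▸ congrArg Subtype.val (hinj _ hqm _ hx h))
    · exact Or.inr (Or.inl (hqv ▸ congrArg Subtype.val (hinj _ hqm _ hy h)))
    · exact Or.inr (Or.inr (hqv ▸ congrArg Subtype.val (hinj _ hqm _ hz h)))
  · have hw : b' * c' * x * y * z ∈ Subgroup.center ↥(Hd D a) := by
      refine (QuotientGroup.eq_one_iff _).1 (φ.injective ?_)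
      show φ (π (b' * c' * x * y * z)) = φ 1
      simp only [map_mul, map_one]
      exact hrel
    intro h hh
    induction hh using Subgroup.closure_induction with
    | mem f hf =>
      by_cases hfa : f = a
      · rw [hfa]
        exact (((((Commute.refl a).mul_right cab).mul_right cac).mul_right hx.2.2).mul_right
          hy.2.2).mul_right hz.2.2
      · have hfH : f ∈ Hd D a := mem_Hd ⟨hf.1, hfa, hf.2⟩
        have e : Commute f (b * c * (x : G) * (y : G) * (z : G)) :=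
          congrArg Subtype.val (Subgroup.mem_center_iff.1 hw ⟨f, hfH⟩)
        have e2 := hf.2.symm.mul_right e
        rw [show a * (b * c * (x : G) * (y : G) * (z : G)) = a * b * c * x * y * z by
          simp [mul_assoc]] at e2
        exact e2
    | one => exact Commute.one_left _
    | mul p q _ _ hp hq => exact hp.mul_left hq
    | inv p _ hp => exact hp.inv_left

/-- The second triple. -/
theorem exists_other [Finite G] (hD : Cfsg.IsThreeTranspositionGroup D)
    (hprim : Cfsg.IsPrimitiveUnderConj D) (h22 : Weak G D)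
    {a b c : G} (ha : a ∈ D) (hb : b ∈ D) (hc : c ∈ D) (hab : a ≠ b) (hac : a ≠ c) (hbc : b ≠ c)
    (cab : Commute a b) (cac : Commute a c) (cbc : Commute b c) :
    ∃ x y z : G, Third D a b c x ∧ Third D a b c y ∧ Third D a b c z ∧ [a, b, c, x, y, z].Nodup ∧
      (Commute x y ∧ Commute x z ∧ Commute y z) ∧
      (∀ q, Third D a b c q → q = x ∨ q = y ∨ q = z) ∧ a * b * c = x * y * z := by
  obtain ⟨h2', hat⟩ := core22 hD h22
  have h2 := h2' a ha
  obtain ⟨x, y, z, hx, hy, hz, hnd, hcs, hall, hv⟩ := hexad hD h22 ha hb hc hab hac hbc cab cac cbc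
  refine ⟨x, y, z, hx, hy, hz, hnd, hcs, hall, ?_⟩
  obtain ⟨x', y', z', hx', hy', hz', hnd', hcs', -, hv'⟩ :=
    hexad hD h22 hb ha hc hab.symm hbc hac cab.symm cbc cac
  have hperm : [x', y', z'].Perm [x, y, z] := by
    have n1 : [x', y', z'].Nodup := hnd'.sublist (List.sublist_append_right [b, a, c] [x', y', z'])
    have n2 : [x, y, z].Nodup := hnd.sublist (List.sublist_append_right [a, b, c] [x, y, z])
    refine (List.perm_ext_iff_of_nodup n1 n2).2 ?_
    have hsub : [x', y', z'] ⊆ [x, y, z] := by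
      intro q hq
      simp only [List.mem_cons, List.not_mem_nil, or_false] at hq ⊢
      rcases hq with rfl | rfl | rfl
      · exact hall _ hx'.swap
      · exact hall _ hy'.swap
      · exact hall _ hz'.swap
    have hp := (List.subperm_of_subset n1 hsub).perm_of_length_le (by simp)
    exact fun q => hp.mem_iff
  have hprod : x' * y' * z' = x * y * z := by
    have h := hperm.prod_eq' (by
      simp [hcs'.1, hcs'.2.1, hcs'.2.2])
    simpa [mul_assoc] using h
  set v := a * b * c * x * y * z with hvdef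
  have hveq : b * a * c * x' * y' * z' = v := by
    rw [show b * a * c * x' * y' * z' = b * a * c * (x' * y' * z') by simp [mul_assoc], hprod,
      ← cab.eq, hvdef]
    simp [mul_assoc]
  rw [hveq] at hv'
  obtain ⟨e, he, hbe, hae⟩ : ∃ e ∈ D, Commute b e ∧ ¬ Commute a e := by
    by_contra! hcon
    have hsub : {e | e ∈ D ∧ Commute b e} ⊆ {e | e ∈ D ∧ Commute a e} :=
      fun e he => ⟨he.1, hcon e he.1 he.2⟩
    obtain ⟨g, hg⟩ := hprim.1 a ha b hb
    have hcard : {e | e ∈ D ∧ Commute a e}.ncard ≤ {e | e ∈ D ∧ Commute b e}.ncard := by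
      refine Set.ncard_le_ncard_of_injOn (fun e => g * e * g⁻¹) ?_ ?_ (Set.toFinite _)
      · rintro e ⟨he, hae⟩
        exact ⟨hD.2.1 g e he, hg ▸ Basic.commute_conj.2 hae⟩
      · intro p _ q _ h
        exact mul_left_cancel (mul_right_cancel h)
    have heq := Set.eq_of_subset_of_ncard_le hsub hcard (Set.toFinite _)
    have hV : Classes.SameComm D a b := ⟨hb, fun e he =>
      ⟨fun h => ((Set.ext_iff.1 heq e).1 ⟨he, h⟩).2, fun h => ((Set.ext_iff.1 heq e).2 ⟨he, h⟩).2⟩⟩
    have h := ((Classes.sameComm_iff_mem hD ha).1 hV).2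
    rw [h2, Subgroup.mem_bot, inv_mul_eq_one] at h
    exact hab h
  have htop := RankThree.closure_eq_top hD hprim ⟨a, ha, b, hb, hab, cab⟩ ha he hae
  have hv1 : v = 1 := by
    rw [← Subgroup.mem_bot, ← h22.center, Subgroup.mem_center_iff]
    intro g
    have hle : Subgroup.closure ({y : G | y ∈ D ∧ Commute a y} ∪ {e}) ≤
        Subgroup.centralizer ({v} : Set G) := by
      rw [Subgroup.closure_le]
      intro f hf
      rw [SetLike.mem_coe, Subgroup.mem_centralizer_iff]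
      rintro _ rfl
      rcases hf with hf | hf
      · exact (hv f (RankThree.mem_loc hf.1 hf.2)).eq.symm
      · rw [Set.mem_singleton_iff.1 hf]
        exact (hv' e (RankThree.mem_loc he hbe)).eq.symm
    rw [htop] at hle
    exact (Subgroup.mem_centralizer_iff.1 (hle (Subgroup.mem_top g)) v rfl).symm
  have hsq : (x * y * z) * (x * y * z) = 1 := by
    rw [← pow_two, (hcs.2.1.mul_left hcs.2.2).mul_pow, hcs.1.mul_pow, pow_two, pow_two, pow_two,
      Classes.sq hD hx.1, Classes.sq hD hy.1, Classes.sq hD hz.1, one_mul, one_mul]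
  calc a * b * c = a * b * c * ((x * y * z) * (x * y * z)) := by rw [hsq, mul_one]
    _ = v * (x * y * z) := by rw [hvdef]; simp [mul_assoc]
    _ = x * y * z := by rw [hv1, one_mul]


end Cfsg.Agent.ThreeTransp.W22
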